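import Mathlib

/-!
A subgroup containing the centraliser of an involution, with one class of involutions and no large subgroup of
odd order, is the whole group.
-/

set_option autoImplicit false

namespace CfsgLib.InvolutionClasses.EmbeddedCount

open Subgroup

variable {G : Type*} [Group G] [Finite G] (M : Subgroup G) {t : G}

theorem exists_conj_eq_of_odd {u t : G} (hu : orderOf u = 2) (ht : orderOf t = 2) (hodd : Odd (orderOf (u * t))) :
    ∃ g : G, g * t * g⁻¹ = u := by
  obtain ⟨k, hk⟩ := hodd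
  have huu : u * u = 1 := by rw [← sq, ← hu, pow_orderOf_eq_one]
  have htt : t * t = 1 := by rw [← sq, ← ht, pow_orderOf_eq_one]
  have hinv : t * (u * t) * t⁻¹ = (u * t)⁻¹ := by
    rw [mul_inv_rev, inv_eq_of_mul_eq_one_right huu, inv_eq_of_mul_eq_one_right htt]
    simp [mul_assoc, htt]
  have hpow : t * (u * t) ^ (k + 1) * t⁻¹ = ((u * t) ^ (k + 1))⁻¹ := by
    rw [← conj_pow, hinv, inv_pow]
  have hsq : (u * t) ^ (k + 1) * (u * t) ^ (k + 1) = u * t := by
    rw [← pow_add, show k + 1 + (k + 1) = (2 * k + 1) + 1 by omega, pow_succ, ← hk, pow_orderOf_eq_one, one_mul]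
  refine ⟨(u * t) ^ (k + 1), ?_⟩
  calc (u * t) ^ (k + 1) * t * ((u * t) ^ (k + 1))⁻¹
      = (u * t) ^ (k + 1) * t * (t * (u * t) ^ (k + 1) * t⁻¹) := by rw [hpow]
    _ = (u * t) ^ (k + 1) * (u * t) ^ (k + 1) * t⁻¹ := by simp only [mul_assoc]; rw [← mul_assoc t t, htt, one_mul]
    _ = u := by rw [hsq, mul_inv_cancel_right]

/-- If `M` contains the centraliser of `t`, all involutions of `M` are conjugate in `M`, and every subgroup of odd
order of `M` has order less than the number of involutions of `M`, then `M = ⊤`. -/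
theorem eq_top (ht : orderOf t = 2) (htM : t ∈ M) (hC : centralizer ({t} : Set G) ≤ M)
    (hone : ∀ x ∈ M, orderOf x = 2 → ∃ m ∈ M, m * t * m⁻¹ = x)
    (hsmall : ∀ D : Subgroup G, D ≤ M → Odd (Nat.card D) →
      Nat.card D < Nat.card {x : G // x ∈ M ∧ orderOf x = 2}) : M = ⊤ := by
  classical
  have := Fintype.ofFinite G
  by_contra hne
  have hCx : ∀ x ∈ M, orderOf x = 2 → ∀ c : G, Commute c x → c ∈ M := by
    intro x hx hx2 c hc
    obtain ⟨m, hm, rfl⟩ := hone x hx hx2
    have : m⁻¹ * c * m ∈ centralizer ({t} : Set G) := by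
      rw [mem_centralizer_singleton_iff]
      calc m⁻¹ * c * m * t = m⁻¹ * (c * (m * t * m⁻¹)) * m := by group
        _ = m⁻¹ * (m * t * m⁻¹ * c) * m := by rw [hc.eq]
        _ = t * (m⁻¹ * c * m) := by group
    have := M.mul_mem (M.mul_mem hm (hC this)) (M.inv_mem hm)
    simpa [mul_assoc] using this
  have hfix : ∀ x ∈ M, orderOf x = 2 → ∀ g : G, g⁻¹ * x * g ∈ M → g ∈ M := by
    intro x hx hx2 g hg
    have h2 : orderOf (g⁻¹ * x * g) = 2 := by
      rw [← hx2]
      exact orderOf_injective (MulAut.conj g⁻¹).toMonoidHom (MulAut.conj g⁻¹).injective x |> (fun e => by simpa using e)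
    obtain ⟨m₁, hm₁, e₁⟩ := hone x hx hx2
    obtain ⟨m₂, hm₂, e₂⟩ := hone _ hg h2
    have hc : Commute (m₁⁻¹ * g * m₂) t := by
      show m₁⁻¹ * g * m₂ * t = t * (m₁⁻¹ * g * m₂)
      calc m₁⁻¹ * g * m₂ * t = m₁⁻¹ * g * (m₂ * t * m₂⁻¹) * m₂ := by group
        _ = m₁⁻¹ * x * g * m₂ := by rw [e₂]; group
        _ = t * (m₁⁻¹ * g * m₂) := by rw [← e₁]; group
    have := M.mul_mem (M.mul_mem hm₁ (hC (mem_centralizer_singleton_iff.2 hc.eq))) (M.inv_mem hm₂)
    simpa [mul_assoc] using this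
  -- every involution of `G` is conjugate to `t`
  have hall : ∀ u : G, orderOf u = 2 → ∃ g : G, g * t * g⁻¹ = u := by
    intro u hu
    by_cases huM : u ∈ M
    · obtain ⟨m, -, e⟩ := hone u huM hu
      exact ⟨m, e⟩
    refine exists_conj_eq_of_odd hu ht ?_
    rw [Nat.odd_iff]
    by_contra he
    obtain ⟨k, hk⟩ : 2 ∣ orderOf (u * t) := by omega
    have hpos : 0 < orderOf (u * t) := orderOf_pos _
    set z := (u * t) ^ k with hz
    have hz2 : orderOf z = 2 := by
      rw [hz, orderOf_pow_of_dvd (by omega) ⟨2, by omega⟩, hk, Nat.mul_div_cancel]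
      omega
    have huu : u * u = 1 := by rw [← sq, ← hu, pow_orderOf_eq_one]
    have htt : t * t = 1 := by rw [← sq, ← ht, pow_orderOf_eq_one]
    have hzz : z⁻¹ = z := inv_eq_of_mul_eq_one_right (by rw [← sq, ← hz2, pow_orderOf_eq_one])
    have hcomm : ∀ w : G, w * (u * t) * w⁻¹ = (u * t)⁻¹ → Commute w z := by
      intro w hw
      have h := conj_pow (i := k) (a := w) (b := u * t)
      rw [hw, inv_pow, ← hz, hzz] at h
      exact (mul_inv_eq_iff_eq_mul.1 h.symm)
    have huinv : u⁻¹ = u := inv_eq_of_mul_eq_one_right huu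
    have htinv : t⁻¹ = t := inv_eq_of_mul_eq_one_right htt
    have hut : Commute u z := hcomm u (by rw [mul_inv_rev, huinv, htinv]; simp [← mul_assoc, huu])
    have htz : Commute t z := hcomm t (by rw [mul_inv_rev, huinv, htinv]; simp [mul_assoc, htt])
    have hzM : z ∈ M := hC (mem_centralizer_singleton_iff.2 htz.symm.eq)
    exact huM (hCx z hzM hz2 u hut)
  -- counting involutions
  let I := {x : G // orderOf x = 2}
  let IM := {x : G // x ∈ M ∧ orderOf x = 2}
  have hcardI : Nat.card I = M.index * Nat.card IM := by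
    have hconj : ∀ (H : Subgroup G) (g : G), orderOf (g * t * g⁻¹) = 2 := fun _ g => by
      rw [← ht]; exact orderOf_injective (MulAut.conj g).toMonoidHom (MulAut.conj g).injective t
    set C := centralizer ({t} : Set G) with hCdef
    have hiff : ∀ a b : G, a * t * a⁻¹ = b * t * b⁻¹ ↔ a⁻¹ * b ∈ C := by
      intro a b
      rw [hCdef, mem_centralizer_singleton_iff]
      constructor
      · intro h
        calc a⁻¹ * b * t = a⁻¹ * (b * t * b⁻¹) * b := by group
          _ = a⁻¹ * (a * t * a⁻¹) * b := by rw [h]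
          _ = t * (a⁻¹ * b) := by group
      · intro h
        calc a * t * a⁻¹ = a * (t * (a⁻¹ * b)) * b⁻¹ := by group
          _ = a * (a⁻¹ * b * t) * b⁻¹ := by rw [h]
          _ = b * t * b⁻¹ := by group
    have e1 : Nat.card I = C.index := by
      let f : G ⧸ C → I := Quotient.lift (fun g => (⟨g * t * g⁻¹, hconj ⊤ g⟩ : I)) fun a b h =>
        Subtype.ext ((hiff a b).2 (QuotientGroup.leftRel_apply.1 h))
      refine (Nat.card_congr (Equiv.ofBijective f ⟨?_, ?_⟩)).symm
      · rintro ⟨a⟩ ⟨b⟩ h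
        exact Quotient.sound (QuotientGroup.leftRel_apply.2 ((hiff a b).1 (congrArg Subtype.val h)))
      · rintro ⟨u, hu⟩
        obtain ⟨g, hg⟩ := hall u hu
        exact ⟨(g : G ⧸ C), Subtype.ext hg⟩
    have e2 : Nat.card IM = C.relIndex M := by
      let f : M ⧸ C.subgroupOf M → IM := Quotient.lift (fun g => (⟨(g : G) * t * (g : G)⁻¹,
          M.mul_mem (M.mul_mem g.2 htM) (M.inv_mem g.2), hconj M g⟩ : IM)) fun a b h =>
        Subtype.ext ((hiff (a : G) b).2 ((QuotientGroup.leftRel_apply (s := C.subgroupOf M)).1 h))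
      refine (Nat.card_congr (Equiv.ofBijective f ⟨?_, ?_⟩)).symm
      · rintro ⟨a⟩ ⟨b⟩ h
        exact Quotient.sound (QuotientGroup.leftRel_apply.2 ((hiff (a : G) b).1 (congrArg Subtype.val h)))
      · rintro ⟨u, huM, hu⟩
        obtain ⟨m, hm, e⟩ := hone u huM hu
        exact ⟨((⟨m, hm⟩ : M) : M ⧸ C.subgroupOf M), Subtype.ext e⟩
    rw [e1, e2, mul_comm]
    exact (relIndex_mul_index hC).symm
  -- some outside coset has at least as many involutions as `M`
  have hpos : 0 < Nat.card IM := Nat.card_pos_iff.2 ⟨⟨⟨t, htM, ht⟩⟩, inferInstance⟩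
  obtain ⟨q, hq1, hq⟩ : ∃ q : G ⧸ M, q ≠ ((1 : G) : G ⧸ M) ∧
      Nat.card IM ≤ Nat.card {x : G // orderOf x = 2 ∧ (x : G ⧸ M) = q} := by
    by_contra hcon
    simp only [not_exists, not_and, not_le] at hcon
    have hn : 1 < M.index := by
      rcases Nat.lt_or_ge 1 M.index with h | h
      · exact h
      · exact absurd (index_eq_one.1 (le_antisymm h (Nat.one_le_iff_ne_zero.2 index_ne_zero_of_finite))) hne
    have hfib : Nat.card I = ∑ q : G ⧸ M, Nat.card {x : G // orderOf x = 2 ∧ (x : G ⧸ M) = q} := by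
      rw [← Nat.card_sigma]
      exact Nat.card_congr ⟨fun x => ⟨((x.1 : G) : G ⧸ M), ⟨x.1, x.2, rfl⟩⟩, fun y => ⟨y.2.1, y.2.2.1⟩,
        fun _ => rfl, by rintro ⟨q, x, hx, rfl⟩; rfl⟩
    have h1 : Nat.card {x : G // orderOf x = 2 ∧ (x : G ⧸ M) = ((1 : G) : G ⧸ M)} = Nat.card IM :=
      Nat.card_congr (Equiv.subtypeEquivRight fun x => by
        rw [QuotientGroup.eq, mul_one, inv_mem_iff, and_comm])
    have hne' : (Finset.univ.erase ((1 : G) : G ⧸ M)).Nonempty := by
      rw [← Finset.card_pos, Finset.card_erase_of_mem (Finset.mem_univ _), Finset.card_univ, ← Nat.card_eq_fintype_card]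
      exact Nat.sub_pos_of_lt hn
    have hlt : ∑ q ∈ Finset.univ.erase ((1 : G) : G ⧸ M), Nat.card {x : G // orderOf x = 2 ∧ (x : G ⧸ M) = q}
        < ∑ _q ∈ Finset.univ.erase ((1 : G) : G ⧸ M), Nat.card IM :=
      Finset.sum_lt_sum_of_nonempty hne' fun q hq => hcon q (Finset.ne_of_mem_erase hq)
    rw [← Finset.add_sum_erase _ _ (Finset.mem_univ ((1 : G) : G ⧸ M)), h1] at hfib
    rw [Finset.sum_const, Finset.card_erase_of_mem (Finset.mem_univ _), Finset.card_univ, ← Nat.card_eq_fintype_card,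
      smul_eq_mul] at hlt
    have : M.index = Nat.card (G ⧸ M) := rfl
    rw [hcardI, this] at hfib
    have h2 : (Nat.card (G ⧸ M) - 1) * Nat.card IM + Nat.card IM = Nat.card (G ⧸ M) * Nat.card IM := by
      rw [← Nat.succ_mul, Nat.succ_eq_add_one, Nat.sub_add_cancel (by omega)]
    omega
  obtain ⟨⟨u, hu, huq⟩⟩ : Nonempty {x : G // orderOf x = 2 ∧ (x : G ⧸ M) = q} :=
    (Nat.card_pos_iff.1 (lt_of_lt_of_le hpos hq)).1
  have huM : u ∉ M := fun h => hq1 (by rw [← huq, QuotientGroup.eq, mul_one]; exact M.inv_mem h)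
  have huu : u * u = 1 := by rw [← sq, ← hu, pow_orderOf_eq_one]
  have huinv : u⁻¹ = u := inv_eq_of_mul_eq_one_right huu
  set D : Subgroup G := M ⊓ M.comap (MulAut.conj u).toMonoidHom
  have hDodd : Odd (Nat.card D) := by
    rw [Nat.odd_iff]
    by_contra he
    obtain ⟨x, hx⟩ := exists_prime_orderOf_dvd_card' (G := D) 2 (by omega)
    have hx2 : orderOf (x : G) = 2 := by
      rw [← hx]; exact orderOf_injective D.subtype D.subtype_injective x
    have hxu : u⁻¹ * (x : G) * u ∈ M := by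
      have := x.2.2
      simpa [huinv] using this
    exact huM (hfix _ x.2.1 hx2 u hxu)
  have hle : Nat.card {x : G // orderOf x = 2 ∧ (x : G ⧸ M) = q} ≤ Nat.card D := by
    refine Nat.card_le_card_of_injective (fun v => (⟨u * v.1, ?_, ?_⟩ : D)) ?_
    · have := QuotientGroup.eq.1 (huq.trans v.2.2.symm)
      rwa [huinv] at this
    · have hvv : v.1 * v.1 = 1 := by rw [← sq]; exact orderOf_dvd_iff_pow_eq_one.1 (by rw [v.2.1])
      have := M.inv_mem (QuotientGroup.eq.1 (huq.trans v.2.2.symm))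
      show u * (u * v.1) * u⁻¹ ∈ M
      rw [huinv, ← mul_assoc u u, huu, one_mul]
      simpa [huinv, inv_eq_of_mul_eq_one_right hvv, mul_assoc] using this
    · intro a b hab
      exact Subtype.ext (mul_left_cancel (congrArg (fun d : D => (d : G)) hab))
  exact absurd (hsmall D inf_le_left hDodd) (not_lt.2 (hq.trans hle))

end CfsgLib.InvolutionClasses.EmbeddedCount
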